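import Groth.Agent.SpaceCurveLib.Isotropic
import Groth.Agent.FFLib.Monic

/-!
# Linear systems of dimension two embedding the curve

Such a system is the system of lines of a smooth plane curve: the quadrics are spanned by products
of two lines.
-/

set_option autoImplicit false
set_option linter.unusedSectionVars false
set_option linter.style.haveILetI false
universe u v

open FunFld
open Groth.Agent.FFLib hiding degHom
open CastelBiratLib

noncomputable section

namespace PlaneNetLib

variable {k : Type u} {K : Type v} [Field k] [IsAlgClosed k] [Field K] [Algebra k K]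
  (hK : FunFld.IsFunctionField k K)

include hK in
/-- A section vanishing exactly on an effective divisor. -/
theorem exists_exact {B : Divisor k K} (hb : Bpf B) (Z : Finset (Place k K)) :
    ∃ f ∈ L B, ∀ P ∈ Z, f ∉ L (B - Finsupp.single P 1) := by
  classical
  haveI := Groth.Agent.S10976.result k K hK B
  obtain ⟨t', ht'⟩ := Submodule.exists_forall_notMem_of_forall_ne_top
    (fun P : {P // P ∈ Z} => (L (B - Finsupp.single (P : Place k K) 1)).comap (L B).subtype) fun P htop => by
    haveI := Groth.Agent.S10976.result k K hK (B - Finsupp.single (P : Place k K) 1)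
    have hle : L B ≤ L (B - Finsupp.single (P : Place k K) 1) := fun x hx =>
      (Submodule.mem_comap.1 (htop.ge (Submodule.mem_top : (⟨x, hx⟩ : L B) ∈ ⊤)))
    exact absurd (Submodule.finrank_mono hle) (not_le.2 (hb _))
  exact ⟨t'.1, t'.2, fun P hP h => ht' ⟨P, hP⟩ h⟩

include hK in
theorem one_mem_L {D : Divisor k K} (h : 0 ≤ D) : (1 : K) ∈ L D :=
  (mem_L_iff one_ne_zero).2 fun P => by rw [ord_one]; simpa using h P

include hK in
/-- A function with polar divisor a given base point free effective divisor. -/
theorem exists_pole_eq {B : Divisor k K} (hb : Bpf B) (h0 : 0 ≤ B) (hd : 0 < B.deg) :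
    ∃ x ∈ L B, x ∉ Set.range (algebraMap k K) ∧ pole (k := k) x = B ∧ (∀ P, B P ≠ 0 → P.ord x = -B P) := by
  classical
  obtain ⟨x, hx, hxP⟩ := exists_exact hK hb B.support
  have hex : ∀ P, B P ≠ 0 → x ≠ 0 ∧ P.ord x = -B P := fun P hP =>
    ord_eq_of_notMem hx (hxP P (Finsupp.mem_support_iff.2 hP))
  obtain ⟨P₀, hP₀⟩ : ∃ P, B P ≠ 0 := by
    by_contra h
    push Not at h
    rw [show B = 0 from Finsupp.ext h, deg_zero] at hd
    omega
  obtain ⟨hx0, hx₀⟩ := hex P₀ hP₀
  refine ⟨x, hx, ?_, Finsupp.ext fun P => ?_, fun P hP => (hex P hP).2⟩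
  · rintro ⟨a, rfl⟩
    rw [ord_const] at hx₀
    have := h0 P₀
    simp only [Finsupp.coe_zero, Pi.zero_apply] at this
    omega
  · rw [pole_apply hK.1]
    have h1 := (mem_L_iff hx0).1 hx P
    have h2 : 0 ≤ B P := h0 P
    by_cases hP : B P = 0
    · omega
    · rw [(hex P hP).2]; omega

include hK in
/-- A base point free system has a ratio whose degree is that of the system. -/
theorem exists_ratio {B : Divisor k K} (hb : Bpf B) (hl : 1 ≤ ell B) (hd : 0 < B.deg) :
    ∃ f ∈ L B, ∃ g ∈ L B, f / g ∉ Set.range (algebraMap k K) ∧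
      (Module.finrank (IntermediateField.adjoin k ({f / g} : Set K)) K : ℤ) = B.deg := by
  obtain ⟨z, hz, he⟩ := exists_effective_of_ell_pos hK.1 (D := B) (by omega)
  have hmem : ∀ {E : Divisor k K} (f : K), f ∈ L (E + FunFld.div k z) ↔ f * z ∈ L E := by
    intro E f
    rcases eq_or_ne f 0 with rfl | hf
    · simp
    simp only [mem_L_iff hf, mem_L_iff (mul_ne_zero hf hz), Finsupp.add_apply, div_apply hK.1, ord_mul _ hf hz]
    exact forall_congr' fun P => by omega
  have hb' : Bpf (B + FunFld.div k z) := fun P => by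
    rw [ell_add_div hK.1 _ hz, add_sub_right_comm, ell_add_div hK.1 _ hz]
    exact hb P
  obtain ⟨x, hx, hxc, hpole, -⟩ := exists_pole_eq hK hb' he (by rw [deg_add, deg_div hK.1, add_zero]; exact hd)
  refine ⟨x * z, (hmem x).1 hx, z, by simpa using (hmem 1).1 (one_mem_L hK he), ?_⟩
  rw [mul_div_assoc, div_self hz, mul_one]
  refine ⟨hxc, ?_⟩
  rw [← deg_pole hK (transcendental_of_notMem hK hxc), hpole, deg_add, deg_div hK.1, add_zero]

include hK in
/-- The ratios of base point free systems of coprime degrees generate the function field. -/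
theorem eq_top_of_two {B B' : Divisor k K} (hb : Bpf B) (hb' : Bpf B') (hl : 1 ≤ ell B) (hl' : 1 ≤ ell B')
    (hd : 0 < B'.deg) (hBB : B.deg = B'.deg + 1) (F : IntermediateField k K)
    (h : ∀ f ∈ L B, ∀ g ∈ L B, f / g ∈ F) (h' : ∀ f ∈ L B', ∀ g ∈ L B', f / g ∈ F) : F = ⊤ := by
  obtain ⟨f, hf, g, hg, hc, hn⟩ := exists_ratio hK hb hl (by omega)
  obtain ⟨f', hf', g', hg', hc', hn'⟩ := exists_ratio hK hb' hl' hd
  have hle : IntermediateField.adjoin k ({f / g} : Set K) ≤ F :=
    IntermediateField.adjoin_le_iff.2 (Set.singleton_subset_iff.2 (h f hf g hg))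
  have hle' : IntermediateField.adjoin k ({f' / g'} : Set K) ≤ F :=
    IntermediateField.adjoin_le_iff.2 (Set.singleton_subset_iff.2 (h' f' hf' g' hg'))
  have h1 := Int.natCast_dvd_natCast.2 (dvd_of_mul_left_eq _ (IntermediateField.relfinrank_mul_finrank_top hle))
  have h2 := Int.natCast_dvd_natCast.2 (dvd_of_mul_left_eq _ (IntermediateField.relfinrank_mul_finrank_top hle'))
  rw [hn] at h1
  rw [hn'] at h2
  have h3 := dvd_sub h1 h2
  rw [hBB, add_sub_cancel_left] at h3
  exact IntermediateField.finrank_eq_one_iff_eq_top.1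
    (Nat.eq_one_of_dvd_one (by exact_mod_cast h3))

theorem pow_mem_L {D : Divisor k K} {f : K} (hf : f ∈ L D) (n : ℕ) : f ^ n ∈ L (n • D) := by
  induction n with
  | zero =>
    rw [pow_zero, zero_nsmul]
    exact (mem_L_iff one_ne_zero).2 fun P => by simp [Place.ord]
  | succ n ih => rw [pow_succ, succ_nsmul]; exact CurveH0Lib.mul_mem_L ih hf

/-- Monomials of degree at most `N`, of degree less than `d` in the second variable. -/
def mons (x y : K) (d N : ℕ) : Submodule k K :=
  Submodule.span k {z | ∃ i j : ℕ, j < d ∧ i + j ≤ N ∧ z = x ^ i * y ^ j}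

theorem mons_le_L {D : Divisor k K} (h0 : 0 ≤ D) {x y : K} (hx : x ∈ L D) (hy : y ∈ L D) (d N : ℕ) :
    mons (k := k) x y d N ≤ L (N • D) := by
  refine Submodule.span_le.2 ?_
  rintro z ⟨i, j, -, hij, rfl⟩
  refine L_mono (nsmul_le_nsmul_left h0 hij) ?_
  rw [add_nsmul]
  exact CurveH0Lib.mul_mem_L (pow_mem_L hx i) (pow_mem_L hy j)

include hK in
/-- A form in two lines of degree less than the curve does not vanish on the line at infinity. -/
theorem form_notMem {D : Divisor k K} (hs : SpaceCurveLib.Sep2 D) (h3 : ell D = 3) (h0 : 0 ≤ D)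
    {x y : K} (hx : x ∈ L D) (hy : y ∈ L D) (hli : ∀ a b c : k, algebraMap k K a + algebraMap k K b * x + y ≠ algebraMap k K c)
    (hxo : ∀ P, D P ≠ 0 → P.ord x = -D P) (hx0 : x ≠ 0) {q : Polynomial k} (hq : q ≠ 0) (hqd : (q.natDegree : ℤ) < D.deg)
    {N : ℕ} (hqN : q.natDegree ≤ N + 1) :
    x ^ (N + 1) * Polynomial.aeval (y / x) q ∉ L (N • D) := by
  classical
  haveI := Groth.Agent.S10976.result k K hK D
  let Z := D.support
  -- one line
  have hline : ∀ α : k, y - algebraMap k K α * x ≠ 0 ∧ (∀ P, 0 ≤ P.ord (y - algebraMap k K α * x) + D P) ∧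
      ∑ P ∈ Z, min (P.ord (y - algebraMap k K α * x) + D P) (D P) ≤ 1 := by
    intro α
    set l := y - algebraMap k K α * x with hl
    have hl0 : l ≠ 0 := fun e => hli 0 (-α) 0 (by
      rw [map_zero, map_neg, zero_add]
      linear_combination e)
    have hlD : l ∈ L D := sub_mem hy (by rw [← Algebra.smul_def]; exact Submodule.smul_mem _ _ hx)
    have hnn : ∀ P, 0 ≤ P.ord l + D P := fun P => by have := (mem_L_iff hl0).1 hlD P; omega
    refine ⟨hl0, hnn, ?_⟩
    have key : ∀ P Q : Place k K, P ∈ Z → Q ∈ Z → (P = Q → 2 ≤ D P) →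
        l ∈ L (D - Finsupp.single P 1 - Finsupp.single Q 1) → False := by
      intro P Q hP hQ hPQ hlm
      have h1 : (1 : K) ∈ L (D - Finsupp.single P 1 - Finsupp.single Q 1) := by
        refine one_mem_L hK fun R => ?_
        have hR : 0 ≤ D R := h0 R
        have hP' : D P ≠ 0 := Finsupp.mem_support_iff.1 hP
        have hQ' : D Q ≠ 0 := Finsupp.mem_support_iff.1 hQ
        have hP0 : 0 ≤ D P := h0 P
        have hQ0 : 0 ≤ D Q := h0 Q
        simp only [Finsupp.coe_zero, Pi.zero_apply, Finsupp.sub_apply, Finsupp.single_apply]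
        split_ifs with e1 e2 e3
        · subst e1; subst e2; have := hPQ rfl; omega
        · subst e1; omega
        · subst e3; omega
        · omega
      haveI := Groth.Agent.S10976.result k K hK (D - Finsupp.single P 1 - Finsupp.single Q 1)
      have hind : LinearIndependent k ![(1 : K), l] := by
        rw [LinearIndependent.pair_iff' one_ne_zero]
        intro c hc
        refine hli 0 (-α) c ?_
        rw [map_zero, map_neg, zero_add]
        rw [Algebra.smul_def, mul_one] at hc
        linear_combination -hc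
      have h2 : LinearIndependent k (![⟨1, h1⟩, ⟨l, hlm⟩] : Fin 2 → L (D - Finsupp.single P 1 - Finsupp.single Q 1)) := by
        refine LinearIndependent.of_comp (L (D - Finsupp.single P 1 - Finsupp.single Q 1)).subtype ?_
        convert hind using 1
        ext i
        fin_cases i <;> rfl
      have h4 := h2.fintype_card_le_finrank
      have h5 := hs P Q
      simp only [Fintype.card_fin, ell] at h4 h5 h3
      omega
    by_contra hsum
    push Not at hsum
    obtain ⟨P, hP, hPpos⟩ : ∃ P ∈ Z, 1 ≤ min (P.ord l + D P) (D P) := by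
      by_contra h
      push Not at h
      have := Finset.sum_le_sum (s := Z) (f := fun P => min (P.ord l + D P) (D P)) (g := fun _ => (0 : ℤ))
        fun P hP => by have := h P hP; omega
      simp at this
      omega
    have hlP : l ∈ L (D - Finsupp.single P 1) := (mem_sub_single_iff hlD hl0).2 (by omega)
    rw [← Finset.add_sum_erase Z _ hP] at hsum
    by_cases h2 : 2 ≤ min (P.ord l + D P) (D P)
    · exact key P P hP hP (fun _ => by omega) ((mem_sub_two_iff hlD hl0).2 (by omega))
    obtain ⟨Q, hQ, hQpos⟩ : ∃ Q ∈ Z.erase P, 1 ≤ min (Q.ord l + D Q) (D Q) := by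
      by_contra h
      push Not at h
      have := Finset.sum_le_sum (s := Z.erase P) (f := fun P => min (P.ord l + D P) (D P)) (g := fun _ => (0 : ℤ))
        fun P hP => by have := h P hP; omega
      simp at this
      omega
    obtain ⟨hne, hQZ⟩ := Finset.mem_erase.1 hQ
    exact key P Q hP hQZ (fun e => absurd e.symm hne)
      (mem_inf (Ne.symm hne) hlP ((mem_sub_single_iff hlD hl0).2 (by omega)))
  -- products of lines
  have hprod : ∀ s : Multiset k, (s.map fun α => y - algebraMap k K α * x).prod ≠ 0 ∧
      (∀ P, 0 ≤ P.ord (s.map fun α => y - algebraMap k K α * x).prod + Multiset.card s * D P) ∧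
      ∑ P ∈ Z, min (P.ord (s.map fun α => y - algebraMap k K α * x).prod + Multiset.card s * D P) (D P) ≤
        Multiset.card s := by
    intro s
    induction s using Multiset.induction_on with
    | empty =>
      simp only [Multiset.map_zero, Multiset.prod_zero, ne_eq, one_ne_zero, not_false_eq_true, ord_one,
        Multiset.card_zero, Nat.cast_zero, zero_mul, add_zero, le_refl, implies_true, true_and]
      exact Finset.sum_nonpos fun P _ => min_le_left _ _
    | cons α s ih =>
      obtain ⟨h1, h2, h4⟩ := ih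
      obtain ⟨g1, g2, g4⟩ := hline α
      rw [Multiset.map_cons, Multiset.prod_cons, Multiset.card_cons]
      refine ⟨mul_ne_zero g1 h1, fun P => ?_, ?_⟩
      · rw [ord_mul P g1 h1]
        push_cast
        linarith [g2 P, h2 P]
      · have := Finset.sum_le_sum (s := Z) fun P hP =>
          show min (P.ord ((y - algebraMap k K α * x) * (s.map fun α => y - algebraMap k K α * x).prod) +
              ((Multiset.card s + 1 : ℕ) : ℤ) * D P) (D P) ≤
            min (P.ord (y - algebraMap k K α * x) + D P) (D P) +
              min (P.ord (s.map fun α => y - algebraMap k K α * x).prod + Multiset.card s * D P) (D P) by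
            rw [ord_mul P g1 h1]
            have := g2 P
            have := h2 P
            have : 0 ≤ D P := h0 P
            push_cast
            rw [add_mul, one_mul]
            omega
        rw [Finset.sum_add_distrib] at this
        push_cast at this ⊢
        linarith
  intro hmem
  obtain ⟨p1, p2, p4⟩ := hprod q.roots
  have hlc : q.leadingCoeff ≠ 0 := Polynomial.leadingCoeff_ne_zero.2 hq
  have hcard : Multiset.card q.roots = q.natDegree := (IsAlgClosed.splits q).natDegree_eq_card_roots.symm
  have hfac : x ^ (N + 1) * Polynomial.aeval (y / x) q =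
      algebraMap k K q.leadingCoeff * x ^ (N + 1 - q.natDegree) * (q.roots.map fun α => y - algebraMap k K α * x).prod := by
    have he : ∀ s : Multiset k, Polynomial.aeval (y / x) (s.map fun α => Polynomial.X - Polynomial.C α).prod * x ^ Multiset.card s =
        (s.map fun α => y - algebraMap k K α * x).prod := by
      intro s
      induction s using Multiset.induction_on with
      | empty => simp
      | cons α s ih =>
        rw [Multiset.map_cons, Multiset.prod_cons, Multiset.map_cons, Multiset.prod_cons, Multiset.card_cons, map_mul,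
          pow_succ, map_sub, Polynomial.aeval_X, Polynomial.aeval_C, ← ih]
        field_simp
    conv_lhs => rw [(IsAlgClosed.splits q).eq_prod_roots, map_mul, Polynomial.aeval_C]
    rw [← he, hcard, show x ^ (N + 1) = x ^ (N + 1 - q.natDegree) * x ^ q.natDegree by rw [← pow_add]; congr 1; omega]
    ring
  rw [hfac] at hmem
  set G := (q.roots.map fun α => y - algebraMap k K α * x).prod with hG
  have hne : algebraMap k K q.leadingCoeff * x ^ (N + 1 - q.natDegree) * G ≠ 0 :=
    mul_ne_zero (mul_ne_zero ((map_ne_zero _).2 hlc) (pow_ne_zero _ hx0)) p1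
  have hsum : D.deg = ∑ P ∈ Z, D P := Finset.sum_congr rfl fun P _ => by simp [deg_eq_one hK P]
  have hge : ∀ P ∈ Z, min (P.ord G + Multiset.card q.roots * D P) (D P) = D P := fun P hP => by
    have h := (mem_L_iff hne).1 hmem P
    rw [ord_mul P (mul_ne_zero ((map_ne_zero _).2 hlc) (pow_ne_zero _ hx0)) p1,
      ord_mul P ((map_ne_zero _).2 hlc) (pow_ne_zero _ hx0), ord_const, ord_pow,
      hxo P (Finsupp.mem_support_iff.1 hP), Finsupp.smul_apply, nsmul_eq_mul] at h
    rw [hcard]
    have e : ((N + 1 - q.natDegree : ℕ) : ℤ) = N + 1 - q.natDegree := by omega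
    rw [e] at h
    refine min_eq_right ?_
    nlinarith
  rw [Finset.sum_congr rfl hge, ← hsum, hcard] at p4
  omega

include hK in
/-- The quadrics of a linear system of dimension two embedding the curve. -/
theorem ell_two_le_six {D₀ : Divisor k K} (hs₀ : SpaceCurveLib.Sep2 D₀) (h3₀ : ell D₀ = 3) : ell (2 • D₀) ≤ 6 := by
  classical
  obtain ⟨c, hc, h0⟩ := exists_effective_of_ell_pos hK.1 (D := D₀) (by omega)
  set D := D₀ + FunFld.div k c with hDdef
  have hs : SpaceCurveLib.Sep2 D := fun P Q => by
    rw [hDdef, show D₀ + FunFld.div k c - Finsupp.single P 1 - Finsupp.single Q 1 =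
      D₀ - Finsupp.single P 1 - Finsupp.single Q 1 + FunFld.div k c by abel, ell_add_div hK.1 _ hc, ell_add_div hK.1 _ hc]
    exact hs₀ P Q
  have h3 : ell D = 3 := by rw [hDdef, ell_add_div hK.1 _ hc, h3₀]
  clear_value D
  suffices h : ell (2 • D) ≤ 6 by
    rwa [hDdef, nsmul_add, two_nsmul (FunFld.div k c), ← div_mul hK.1 hc hc, ell_add_div hK.1 _ (mul_ne_zero hc hc)] at h
  have hstep1 : ∀ P, ell (D - Finsupp.single P 1) = 2 := fun P => by
    have := hs P P
    have := step hK (D - Finsupp.single P 1) P
    have := step hK D P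
    have : ell (D - Finsupp.single P 1 - Finsupp.single P 1) ≤ ell (D - Finsupp.single P 1) := by
      haveI := Groth.Agent.S10976.result k K hK (D - Finsupp.single P 1)
      exact Submodule.finrank_mono (L_mono (sub_single_le _ P))
    omega
  have hbpf : Bpf D := fun P => by rw [hstep1]; omega
  have hd : (3 : ℤ) ≤ D.deg + 1 := by have := SpaceCurveLib.deg_ge hK (D := D) (by omega); omega
  obtain ⟨x, hx, hxc, hpole, hxo⟩ := exists_pole_eq hK hbpf h0 (by omega)
  have hx0 : x ≠ 0 := fun e => hxc ⟨0, by rw [e, map_zero]⟩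
  have htr := transcendental_of_notMem hK hxc
  have hdeg : (Module.finrank (IntermediateField.adjoin k ({x} : Set K)) K : ℤ) = D.deg := by
    rw [← deg_pole hK htr, hpole]
  haveI := Groth.Agent.S10976.result k K hK D
  have h1 := one_mem_L hK h0
  obtain ⟨y, hy, hysp⟩ : ∃ y ∈ L D, y ∉ Submodule.span k ({1, x} : Set K) := by
    by_contra h
    push Not at h
    haveI : Module.Finite k (Submodule.span k ({1, x} : Set K)) :=
      Module.Finite.span_of_finite k (Set.toFinite _)
    have := Submodule.finrank_mono h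
    have h2 := finrank_span_le_card (R := k) ({1, x} : Set K)
    have : ({1, x} : Set K).toFinset.card ≤ 2 := by
      rw [Set.toFinset_insert, Set.toFinset_singleton]
      exact Finset.card_le_two
    simp only [ell] at h3
    omega
  have hspan : L D ≤ Submodule.span k ({1, x} : Set K) ⊔ Submodule.span k {y} := by
    have hle : Submodule.span k ({1, x} : Set K) ⊔ Submodule.span k {y} ≤ L D :=
      sup_le (Submodule.span_le.2 (Set.insert_subset h1 (Set.singleton_subset_iff.2 hx)))
        (Submodule.span_le.2 (Set.singleton_subset_iff.2 hy))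
    haveI := Submodule.finiteDimensional_of_le hle
    refine (Submodule.eq_of_le_of_finrank_le hle ?_).ge
    have hind : LinearIndependent k ![(1 : K), x] := by
      rw [LinearIndependent.pair_iff' one_ne_zero]
      intro a ha
      exact hxc ⟨a, by rw [← ha, Algebra.smul_def, mul_one]⟩
    have hc2 : Module.finrank k (Submodule.span k ({1, x} : Set K)) = 2 := by
      have := finrank_span_eq_card hind
      rwa [show Set.range ![(1 : K), x] = {1, x} by simp [Set.pair_comm], Fintype.card_fin] at this
    have hlt := Submodule.finrank_lt_finrank_of_lt (lt_of_le_of_ne (le_sup_left (a := Submodule.span k ({1, x} : Set K))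
      (b := Submodule.span k {y})) fun e => hysp (e.symm ▸ Submodule.mem_sup_right (Submodule.mem_span_singleton_self y)))
    simp only [ell] at h3
    omega
  have hli : ∀ a b c : k, algebraMap k K a + algebraMap k K b * x + y ≠ algebraMap k K c := fun a b c e => hysp (by
    rw [show y = algebraMap k K (c - a) * 1 + algebraMap k K (-b) * x by
      rw [map_sub, map_neg]; linear_combination e]
    simp only [← Algebra.smul_def]
    exact add_mem (Submodule.smul_mem _ _ (Submodule.subset_span (by simp)))
      (Submodule.smul_mem _ _ (Submodule.subset_span (by simp))))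
  -- the lines generate the function field
  let F := IntermediateField.adjoin k ({x} ∪ {y} : Set K)
  have hLF : ∀ f ∈ L D, f ∈ F := fun f hf => by
    obtain ⟨u, hu, w, hw, rfl⟩ := Submodule.mem_sup.1 (hspan hf)
    obtain ⟨a, b, rfl⟩ := Submodule.mem_span_pair.1 hu
    obtain ⟨e, rfl⟩ := Submodule.mem_span_singleton.1 hw
    simp only [Algebra.smul_def]
    exact add_mem (add_mem (mul_mem (F.algebraMap_mem a) (one_mem F))
      (mul_mem (F.algebraMap_mem b) (IntermediateField.subset_adjoin _ _ (Or.inl rfl))))
      (mul_mem (F.algebraMap_mem e) (IntermediateField.subset_adjoin _ _ (Or.inr rfl)))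
  obtain ⟨P₁, hP₁⟩ : ∃ P, D P ≠ 0 := by
    by_contra h
    push Not at h
    rw [show D = 0 from Finsupp.ext h, deg_zero] at hd
    omega
  have hbP : Bpf (D - Finsupp.single P₁ 1) := fun Q => by
    rw [hstep1]
    have := hs P₁ Q
    omega
  have hF : F = ⊤ := eq_top_of_two hK hbpf hbP (by omega) (by rw [hstep1]; omega)
    (by rw [deg_sub, deg_single, deg_eq_one hK]; omega)
    (by rw [deg_sub, deg_single, deg_eq_one hK]; ring) F
    (fun f hf g hg => div_mem (hLF f hf) (hLF g hg))
    (fun f hf g hg => div_mem (hLF f (L_mono (sub_single_le D P₁) hf)) (hLF g (L_mono (sub_single_le D P₁) hg)))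
  set d := Module.finrank (IntermediateField.adjoin k ({x} : Set K)) K with hddef
  have htop : IntermediateField.adjoin (IntermediateField.adjoin k ({x} : Set K)) ({y} : Set K) = ⊤ :=
    IntermediateField.restrictScalars_injective k
      (by rw [IntermediateField.adjoin_adjoin_left, IntermediateField.restrictScalars_top]; exact hF)
  have hreg : ∀ Q : Place k K, 0 ≤ Q.ord x → D Q = 0 := fun Q hQ => by
    by_contra h
    have := hxo Q h
    have : 0 ≤ D Q := h0 Q
    omega
  have hyreg : ∀ Q : Place k K, 0 ≤ Q.ord x → Q.1 y ≤ 1 := fun Q hQ => by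
    rcases eq_or_ne y 0 with rfl | hy0
    · simp
    refine (v_le_one_iff Q y).2 ?_
    have := (mem_L_iff hy0).1 hy Q
    rw [hreg Q hQ] at this
    omega
  obtain ⟨q, hq⟩ := exists_monic_relation hK htr hyreg htop
  -- the coordinate ring
  let T : Submodule k K := ⨆ N, mons (k := k) x y d N
  have hmono : ∀ i j, j < d → x ^ i * y ^ j ∈ T := fun i j hj =>
    Submodule.mem_iSup_of_mem (i + j) (Submodule.subset_span ⟨i, j, hj, le_rfl, rfl⟩)
  have hTy : ∀ i j, j ≤ d → x ^ i * y ^ j ∈ T := fun i j hj => by
    rcases hj.lt_or_eq with hj | rfl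
    · exact hmono i j hj
    rw [eq_neg_of_add_eq_zero_left hq, mul_neg, Finset.mul_sum]
    refine neg_mem (sum_mem fun l _ => ?_)
    rw [Polynomial.aeval_eq_sum_range, Finset.sum_mul, Finset.mul_sum]
    refine sum_mem fun n _ => ?_
    rw [Algebra.smul_def, show x ^ i * (algebraMap k K ((q l).coeff n) * x ^ n * y ^ (l : ℕ)) =
      algebraMap k K ((q l).coeff n) * (x ^ (i + n) * y ^ (l : ℕ)) by rw [pow_add]; ring, ← Algebra.smul_def]
    exact Submodule.smul_mem _ _ (hmono _ _ l.2)
  have hxT : ∀ t ∈ T, x * t ∈ T ∧ y * t ∈ T := by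
    intro t ht
    have : T ≤ T.comap (LinearMap.mulLeft k x) ⊓ T.comap (LinearMap.mulLeft k y) := iSup_le fun N => Submodule.span_le.2 (by
      rintro z ⟨i, j, hj, -, rfl⟩
      refine Submodule.mem_inf.2 ⟨?_, ?_⟩
      · show x * (x ^ i * y ^ j) ∈ T
        rw [← mul_assoc, ← pow_succ']
        exact hmono _ _ hj
      · show y * (x ^ i * y ^ j) ∈ T
        rw [mul_left_comm, ← pow_succ']
        exact hTy _ _ hj)
    exact Submodule.mem_inf.1 (this ht)
  have hdpos : 0 < d := by omega
  let A := Algebra.adjoin k ({x, y} : Set K)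
  have hAmul : ∀ a ∈ A, ∀ t ∈ T, a * t ∈ T := fun a ha => by
    induction ha using Algebra.adjoin_induction with
    | mem z hz =>
      rcases hz with rfl | hz
      · exact fun t ht => (hxT t ht).1
      · rw [Set.mem_singleton_iff] at hz; subst hz; exact fun t ht => (hxT t ht).2
    | algebraMap c => exact fun t ht => by rw [← Algebra.smul_def]; exact T.smul_mem _ ht
    | add a b _ _ ha hb => exact fun t ht => by rw [add_mul]; exact add_mem (ha t ht) (hb t ht)
    | mul a b _ _ ha hb => exact fun t ht => by rw [mul_assoc]; exact ha _ (hb t ht)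
  have hAT : ∀ a ∈ A, a ∈ T := fun a ha => by
    have := hAmul a ha 1 (by simpa using hmono 0 0 hdpos)
    rwa [mul_one] at this
  have hxA : ∀ p : Polynomial k, Polynomial.aeval x p ∈ A := fun p => by
    refine Algebra.adjoin_mono (show ({x} : Set K) ⊆ {x, y} by simp) ?_
    rw [Algebra.adjoin_singleton_eq_range_aeval]
    exact ⟨p, rfl⟩
  -- denominators
  have hden : ∀ g : K, ∃ p : Polynomial k, p ≠ 0 ∧ Polynomial.aeval x p * g ∈ A := by
    intro g
    haveI := finite_adjoin hK.1 htr
    have halg : IsAlgebraic (IntermediateField.adjoin k ({x} : Set K)) y := Algebra.IsAlgebraic.isAlgebraic y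
    have hg : g ∈ Algebra.adjoin (IntermediateField.adjoin k ({x} : Set K)) ({y} : Set K) := by
      rw [← IntermediateField.adjoin_simple_toSubalgebra_of_isAlgebraic halg, htop]
      trivial
    induction hg using Algebra.adjoin_induction with
    | mem z hz =>
      rw [Set.mem_singleton_iff] at hz
      subst hz
      exact ⟨1, one_ne_zero, by rw [map_one, one_mul]; exact Algebra.subset_adjoin (by simp)⟩
    | algebraMap e =>
      obtain ⟨r, s, hrs⟩ := (IntermediateField.mem_adjoin_simple_iff k _).1 e.2
      change ∃ p : Polynomial k, p ≠ 0 ∧ Polynomial.aeval x p * (e : K) ∈ A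
      rw [hrs]
      rcases eq_or_ne (Polynomial.aeval x s) 0 with h | h
      · exact ⟨1, one_ne_zero, by rw [h, div_zero, mul_zero]; exact zero_mem _⟩
      · exact ⟨s, fun e => h (by rw [e, map_zero]), by rw [mul_div_cancel₀ _ h]; exact hxA r⟩
    | add a b _ _ ha hb =>
      obtain ⟨p, hp, hpa⟩ := ha
      obtain ⟨p', hp', hpb⟩ := hb
      refine ⟨p * p', mul_ne_zero hp hp', ?_⟩
      rw [map_mul, show Polynomial.aeval x p * Polynomial.aeval x p' * (a + b) =
        Polynomial.aeval x p' * (Polynomial.aeval x p * a) + Polynomial.aeval x p * (Polynomial.aeval x p' * b) by ring]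
      exact add_mem (mul_mem (hxA _) hpa) (mul_mem (hxA _) hpb)
    | mul a b _ _ ha hb =>
      obtain ⟨p, hp, hpa⟩ := ha
      obtain ⟨p', hp', hpb⟩ := hb
      refine ⟨p * p', mul_ne_zero hp hp', ?_⟩
      rw [map_mul, show Polynomial.aeval x p * Polynomial.aeval x p' * (a * b) =
        (Polynomial.aeval x p * a) * (Polynomial.aeval x p' * b) by ring]
      exact mul_mem hpa hpb
  obtain ⟨G, hG1, hG2⟩ := exists_finite_span_regular hK htr (Algebra.adjoin k {x}) (Algebra.subset_adjoin rfl)
  choose p hp hpg using hden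
  set P := ∏ g ∈ G, p g with hPdef
  have hP0 : P ≠ 0 := Finset.prod_ne_zero_iff.2 fun g _ => hp g
  have hcond : ∀ z : K, (∀ Q : Place k K, 0 ≤ Q.ord x → Q.1 z ≤ 1) → Polynomial.aeval x P * z ∈ A := by
    intro z hz
    have h2 := hG2 z hz
    clear hz
    induction h2 using Submodule.span_induction with
    | mem g hg =>
      rw [hPdef, ← Finset.mul_prod_erase G p hg, map_mul, mul_right_comm]
      exact mul_mem (hpg g) (hxA _)
    | zero => rw [mul_zero]; exact zero_mem _
    | add a b _ _ iha ihb => rw [mul_add]; exact add_mem iha ihb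
    | smul e w _ ihw =>
      obtain ⟨e, he⟩ := e
      show Polynomial.aeval x P * (e * w) ∈ A
      rw [mul_left_comm]
      exact mul_mem (Algebra.adjoin_mono (show ({x} : Set K) ⊆ {x, y} by simp) he) ihw
  -- points impose independent conditions
  have hLA : ∀ f ∈ L D, f ∈ A := fun f hf => by
    obtain ⟨u, hu, w, hw, rfl⟩ := Submodule.mem_sup.1 (hspan hf)
    obtain ⟨a, b, rfl⟩ := Submodule.mem_span_pair.1 hu
    obtain ⟨e, rfl⟩ := Submodule.mem_span_singleton.1 hw
    exact add_mem (add_mem (A.smul_mem (one_mem A) a) (A.smul_mem (Algebra.subset_adjoin (by simp)) b))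
      (A.smul_mem (Algebra.subset_adjoin (by simp)) e)
  have hsel : ∀ (E : Divisor k K), 0 ≤ E → ∀ (m : ℕ), E.deg ≤ m → ∀ R : Place k K,
      ∃ s ∈ A, s ∈ L (m • D - E) ∧ s ∉ L (m • D - E - Finsupp.single R 1) := by
    intro E hE m
    induction m generalizing E with
    | zero =>
      intro hEd R
      have : E = 0 := by
        refine Finsupp.ext fun Q => ?_
        by_contra hne
        have hQ : Q ∈ E.support := Finsupp.mem_support_iff.2 hne
        have h5 : E Q * Q.deg ≤ E.deg :=
          Finset.single_le_sum (f := fun Q => E Q * (Q.deg : ℤ))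
            (fun Q _ => mul_nonneg (hE Q) (Int.natCast_nonneg _)) hQ
        rw [deg_eq_one hK Q] at h5
        have : 0 ≤ E Q := hE Q
        simp only [Finsupp.coe_zero, Pi.zero_apply] at hne
        omega
      subst this
      refine ⟨1, one_mem A, by rw [zero_nsmul, sub_zero]; exact one_mem_L hK le_rfl, fun h => ?_⟩
      have := (mem_L_iff one_ne_zero).1 h R
      rw [zero_nsmul, sub_zero, zero_sub, Finsupp.neg_apply, Finsupp.single_eq_same, ord_one] at this
      omega
    | succ m ih =>
      intro hEd R
      by_cases hE0 : E = 0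
      · obtain ⟨s, hsA, hs1, hs2⟩ := ih 0 le_rfl (by rw [deg_zero]; exact Int.natCast_nonneg _) R
        obtain ⟨g, hg, hgR, -⟩ := exists_avoid hK (hbpf R) (hbpf R)
        obtain ⟨hs0, hso⟩ := ord_eq_of_notMem hs1 hs2
        obtain ⟨hg0, hgo⟩ := ord_eq_of_notMem hg hgR
        subst hE0
        rw [succ_nsmul, sub_zero]
        rw [sub_zero] at hs1 hso
        refine ⟨s * g, mul_mem hsA (hLA g hg), CurveH0Lib.mul_mem_L hs1 hg, fun h => ?_⟩
        have := (mem_L_iff (mul_ne_zero hs0 hg0)).1 h R
        rw [ord_mul R hs0 hg0, hso, hgo, Finsupp.sub_apply, Finsupp.add_apply, Finsupp.single_eq_same] at this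
        omega
      obtain ⟨Q, hQ⟩ : ∃ Q, E Q ≠ 0 := by
        by_contra h
        push Not at h
        exact hE0 (Finsupp.ext h)
      have hQ1 : 1 ≤ E Q := by have : 0 ≤ E Q := hE Q; omega
      have hE' : 0 ≤ E - Finsupp.single Q 1 := fun S => by
        have : 0 ≤ E S := hE S
        simp only [Finsupp.coe_zero, Pi.zero_apply, Finsupp.sub_apply, Finsupp.single_apply]
        split_ifs with e
        · subst e; omega
        · omega
      obtain ⟨s, hsA, hs1, hs2⟩ := ih (E - Finsupp.single Q 1) hE'
        (by rw [deg_sub, deg_single, deg_eq_one hK]; push_cast at hEd ⊢; omega) R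
      have hb : ell (D - Finsupp.single Q 1 - Finsupp.single R 1) < ell (D - Finsupp.single Q 1) := by
        rw [hstep1]; have := hs Q R; omega
      obtain ⟨g, hg, hgR, -⟩ := exists_avoid hK hb hb
      obtain ⟨hs0, hso⟩ := ord_eq_of_notMem hs1 hs2
      obtain ⟨hg0, hgo⟩ := ord_eq_of_notMem hg hgR
      have he : (m + 1) • D - E = m • D - (E - Finsupp.single Q 1) + (D - Finsupp.single Q 1) := by
        rw [succ_nsmul]; abel
      rw [he]
      refine ⟨s * g, mul_mem hsA (hLA g (L_mono (sub_single_le D Q) hg)), CurveH0Lib.mul_mem_L hs1 hg, fun h => ?_⟩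
      have := (mem_L_iff (mul_ne_zero hs0 hg0)).1 h R
      rw [ord_mul R hs0 hg0, hso, hgo] at this
      simp only [Finsupp.sub_apply, Finsupp.add_apply, Finsupp.single_eq_same] at this
      omega
  have hsurj : ∀ (e : ℕ) (E : Divisor k K), 0 ≤ E → E.deg = e → ∀ m : ℕ, e ≤ m → ∀ z ∈ L (m • D),
      ∃ s ∈ A, z - s ∈ L (m • D - E) := by
    intro e
    induction e with
    | zero =>
      intro E hE hEd m _ z hz
      have : E = 0 := by
        refine Finsupp.ext fun Q => ?_
        by_contra hne
        have hQ : Q ∈ E.support := Finsupp.mem_support_iff.2 hne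
        have h5 : E Q * Q.deg ≤ E.deg :=
          Finset.single_le_sum (f := fun Q => E Q * (Q.deg : ℤ))
            (fun Q _ => mul_nonneg (hE Q) (Int.natCast_nonneg _)) hQ
        rw [deg_eq_one hK Q] at h5
        have : 0 ≤ E Q := hE Q
        simp only [Finsupp.coe_zero, Pi.zero_apply] at hne
        omega
      subst this
      exact ⟨0, zero_mem _, by rwa [sub_zero, sub_zero]⟩
    | succ e ih =>
      intro E hE hEd m hm z hz
      obtain ⟨Q, hQ⟩ : ∃ Q, E Q ≠ 0 := by
        by_contra h
        push Not at h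
        rw [show E = 0 from Finsupp.ext h, deg_zero] at hEd
        omega
      have hQ1 : 1 ≤ E Q := by have : 0 ≤ E Q := hE Q; omega
      have hE' : 0 ≤ E - Finsupp.single Q 1 := fun S => by
        have : 0 ≤ E S := hE S
        simp only [Finsupp.coe_zero, Pi.zero_apply, Finsupp.sub_apply, Finsupp.single_apply]
        split_ifs with e
        · subst e; omega
        · omega
      have hd' : Divisor.deg (E - Finsupp.single Q 1) = (e : ℤ) := by
        rw [deg_sub, deg_single, deg_eq_one hK]; push_cast at hEd ⊢; omega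
      obtain ⟨s, hsA, hs'⟩ := ih _ hE' hd' m (by omega) z hz
      obtain ⟨t, htA, ht1, ht2⟩ := hsel (E - Finsupp.single Q 1) hE' m (by omega) Q
      set H := m • D - (E - Finsupp.single Q 1) with hH
      haveI := Groth.Agent.S10976.result k K hK H
      have hle : L (H - Finsupp.single Q 1) ⊔ Submodule.span k {t} ≤ L H :=
        sup_le (L_mono (sub_single_le H Q)) (Submodule.span_le.2 (Set.singleton_subset_iff.2 ht1))
      haveI := Submodule.finiteDimensional_of_le hle
      have heq : L (H - Finsupp.single Q 1) ⊔ Submodule.span k {t} = L H := by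
        refine Submodule.eq_of_le_of_finrank_le hle ?_
        have hlt := Submodule.finrank_lt_finrank_of_lt
          (lt_of_le_of_ne (le_sup_left (a := L (H - Finsupp.single Q 1)) (b := Submodule.span k {t}))
            fun e => ht2 (e.symm ▸ Submodule.mem_sup_right (Submodule.mem_span_singleton_self t)))
        have := step hK H Q
        simp only [ell] at this
        omega
      rw [← heq] at hs'
      obtain ⟨u, hu, w, hw, huw⟩ := Submodule.mem_sup.1 hs'
      obtain ⟨a, rfl⟩ := Submodule.mem_span_singleton.1 hw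
      refine ⟨s + a • t, add_mem hsA (A.smul_mem htA a), ?_⟩
      rw [show z - (s + a • t) = u by linear_combination -huw, show m • D - E = H - Finsupp.single Q 1 by rw [hH]; abel]
      exact hu
  -- regular functions are polynomials in the coordinates
  set w := Polynomial.aeval x P with hw
  have hw0 : w ≠ 0 := fun e => hP0 (transcendental_iff_injective.1 htr (by rw [map_zero]; exact e))
  let Ez := pole (k := k) w⁻¹
  have hEz : ∀ Q, Ez Q = max (Q.ord w) 0 := fun Q => by
    simp only [Ez, pole_apply hK.1, ord_inv, neg_neg]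
  have hEz0 : 0 ≤ Ez := fun Q => by
    simp only [Finsupp.coe_zero, Pi.zero_apply, hEz]
    omega
  have hregA : ∀ m : ℕ, Ez.deg ≤ m → ∀ z ∈ L (m • D), z ∈ A := by
    intro m hm z hz
    obtain ⟨e, he⟩ : ∃ e : ℕ, Ez.deg = e := ⟨Ez.deg.toNat, (Int.toNat_of_nonneg (by
      refine Finset.sum_nonneg fun Q _ => mul_nonneg ?_ (Int.natCast_nonneg _)
      exact hEz0 Q)).symm⟩
    obtain ⟨s, hsA, hzs⟩ := hsurj e Ez hEz0 he m (by omega) z hz
    have h4 : w * ((z - s) / w) ∈ A := hcond _ fun Q hQ => by
      rcases eq_or_ne (z - s) 0 with h | h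
      · simp [h]
      refine (v_le_one_iff Q _).2 ?_
      have h5 := (mem_L_iff h).1 hzs Q
      rw [Finsupp.sub_apply, Finsupp.smul_apply, hreg Q hQ, smul_zero, hEz] at h5
      rw [div_eq_mul_inv, ord_mul Q h (inv_ne_zero hw0), ord_inv]
      omega
    rw [mul_div_cancel₀ _ hw0] at h4
    simpa using add_mem h4 hsA
  -- degrees
  have hdesc : ∀ N : ℕ, 2 ≤ N → ∀ z ∈ mons (k := k) x y d (N + 1), z ∈ L (2 • D) → z ∈ mons (k := k) x y d N := by
    intro N hN z hz hz2
    let v : Fin (min d (N + 2)) → K := fun j => x ^ (N + 1 - (j : ℕ)) * y ^ (j : ℕ)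
    have hle : mons (k := k) x y d (N + 1) ≤ mons (k := k) x y d N ⊔ Submodule.span k (Set.range v) := by
      refine Submodule.span_le.2 ?_
      rintro _ ⟨i, j, hj, hij, rfl⟩
      rcases hij.lt_or_eq with h | h
      · exact Submodule.mem_sup_left (Submodule.subset_span ⟨i, j, hj, by omega, rfl⟩)
      · refine Submodule.mem_sup_right (Submodule.subset_span ⟨⟨j, by omega⟩, ?_⟩)
        simp only [v]
        rw [show N + 1 - j = i by omega]
    obtain ⟨u, hu, Φ, hΦ, rfl⟩ := Submodule.mem_sup.1 (hle hz)
    have hΦL : Φ ∈ L (N • D) := by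
      have h5 := sub_mem (L_mono (nsmul_le_nsmul_left h0 hN) hz2) (mons_le_L h0 hx hy d N hu)
      rwa [add_sub_cancel_left] at h5
    suffices Φ = 0 by rw [this, add_zero]; exact hu
    obtain ⟨cf, hcf⟩ := (Submodule.mem_span_range_iff_exists_fun k).1 hΦ
    let q : Polynomial k := ∑ j, Polynomial.C (cf j) * Polynomial.X ^ (j : ℕ)
    have hΦq : Φ = x ^ (N + 1) * Polynomial.aeval (y / x) q := by
      simp only [q, map_sum, map_mul, map_pow, Polynomial.aeval_C, Polynomial.aeval_X, Finset.mul_sum, ← hcf,
        Algebra.smul_def]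
      refine Finset.sum_congr rfl fun j _ => ?_
      have hj : (j : ℕ) ≤ N + 1 := by have := j.2; omega
      rw [show x ^ (N + 1) = x ^ (N + 1 - (j : ℕ)) * x ^ (j : ℕ) by rw [← pow_add, Nat.sub_add_cancel hj], div_pow]
      simp only [v]
      field_simp
    by_contra hne
    have hqne : q ≠ 0 := fun e => hne (by rw [hΦq, e, map_zero, mul_zero])
    have hqdeg : q.natDegree ≤ min d (N + 2) - 1 := Polynomial.natDegree_sum_le_of_forall_le _ _ fun j _ =>
      (Polynomial.natDegree_C_mul_X_pow_le _ _).trans (by have := j.2; omega)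
    exact form_notMem hK hs h3 h0 hx hy hli hxo hx0 hqne (by omega) (by omega) (hΦq ▸ hΦL)
  have hdown : ∀ N : ℕ, ∀ z ∈ mons (k := k) x y d N, z ∈ L (2 • D) → z ∈ mons (k := k) x y d 2 := by
    intro N
    induction N with
    | zero => exact fun z hz _ => Submodule.span_mono (by rintro _ ⟨i, j, hj, hij, rfl⟩; exact ⟨i, j, hj, by omega, rfl⟩) hz
    | succ N ih =>
      intro z hz hz2
      by_cases hN : 2 ≤ N
      · exact ih z (hdesc N hN z hz hz2) hz2
      · exact Submodule.span_mono (by rintro _ ⟨i, j, hj, hij, rfl⟩; exact ⟨i, j, hj, by omega, rfl⟩) hz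
  let six : Fin 6 → K := ![1, x, y, x ^ 2, x * y, y ^ 2]
  have h26 : L (2 • D) ≤ Submodule.span k (Set.range six) := by
    intro z hz
    have hzA : z ∈ A := hregA (max Ez.deg.toNat 2) (by omega) z (L_mono (nsmul_le_nsmul_left h0 (le_max_right _ _)) hz)
    have hmonN : Monotone fun N => mons (k := k) x y d N := fun a b hab =>
      Submodule.span_mono (by rintro _ ⟨i, j, hj, hij, rfl⟩; exact ⟨i, j, hj, by omega, rfl⟩)
    obtain ⟨N, hN⟩ := (Submodule.mem_iSup_of_directed _ hmonN.directed_le).1 (hAT z hzA)
    refine (Submodule.span_le.2 ?_) (hdown N z hN hz)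
    rintro _ ⟨i, j, -, hij, rfl⟩
    apply Submodule.subset_span
    have hi : i ≤ 2 := by omega
    have hj : j ≤ 2 := by omega
    interval_cases i <;> interval_cases j <;> first | omega | simp [six]
  haveI : Module.Finite k (Submodule.span k (Set.range six)) := Module.Finite.span_of_finite k (Set.finite_range _)
  calc ell (2 • D) ≤ Module.finrank k (Submodule.span k (Set.range six)) := Submodule.finrank_mono h26
    _ ≤ 6 := (finrank_range_le_card six).trans_eq (Fintype.card_fin 6)

end PlaneNetLib

end
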