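import Groth.Agent.PlaneNetLib.Basic
import Groth.Agent.SpaceCurveLib.Bound

/-!
# Nonspecial very ample divisors

A general divisor of degree `g + 3` is nonspecial and embeds the curve.
-/

set_option autoImplicit false
set_option linter.unusedSectionVars false
set_option linter.style.haveILetI false
universe u v

open FunFld
open Groth.Agent.FFLib hiding degHom
open CastelBiratLib

noncomputable section

namespace PlaneNetLib

variable {k : Type u} {K : Type v} [Field k] [IsAlgClosed k] [Field K] [Algebra k K]
  (hK : FunFld.IsFunctionField k K) {C : Divisor k K} (hC : IsCanonical k K C)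

include hK in
/-- Bases of Riemann-Roch spaces as families of functions. -/
theorem exists_family {H : Divisor k K} {m : ℕ} (hm : ell H = m + 1) :
    ∃ φ : Fin (m + 1) → K, LinearIndependent k φ ∧ Submodule.span k (Set.range φ) = L H := by
  haveI := Groth.Agent.S10976.result k K hK H
  let b : Module.Basis (Fin (m + 1)) k (L H) := Module.finBasisOfFinrankEq k (L H) hm
  refine ⟨fun i => (b i).1, b.linearIndependent.map' (L H).subtype (Submodule.ker_subtype _), ?_⟩
  rw [show (Set.range fun i => (b i).1) = (L H).subtype '' Set.range b from by rw [← Set.range_comp]; rfl,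
    Submodule.span_image, b.span_eq, Submodule.map_top, Submodule.range_subtype]

theorem exists_sub_single {E : Divisor k K} (hE : 0 ≤ E) (hd : 0 < E.deg) :
    ∃ Q : Place k K, 0 ≤ E - Finsupp.single Q 1 := by
  classical
  obtain ⟨Q, hQ⟩ : ∃ Q, E Q ≠ 0 := by
    by_contra h
    push Not at h
    rw [show E = 0 from Finsupp.ext h, deg_zero] at hd
    omega
  refine ⟨Q, fun S => ?_⟩
  have : 0 ≤ E S := hE S
  rw [Finsupp.coe_zero, Pi.zero_apply, Finsupp.sub_apply, Finsupp.single_apply]
  split_ifs with e
  · subst e; omega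
  · omega

include hK in
/-- Two base point free systems of consecutive degrees, one inside the other. -/
theorem birat_and_not_iso {D : Divisor k K} (h3 : ell D = 3) (hb : Bpf D) {R : Place k K}
    (hbR : Bpf (D - Finsupp.single R 1)) (hd : 2 ≤ D.deg) : Birat D ∧ ¬ SpaceCurveLib.Iso (L D) := by
  classical
  obtain ⟨φ, hφ, hspan⟩ := exists_family hK (H := D) (m := 2) h3
  have hφL : ∀ i, φ i ∈ L D := fun i => hspan ▸ Submodule.subset_span ⟨i, rfl⟩
  have htop : ∀ F : IntermediateField k K, (∀ i, φ i / φ 0 ∈ F) → F = ⊤ := by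
    intro F hF
    have hrat : ∀ f ∈ L D, f / φ 0 ∈ F := fun f hf => by
      rw [← hspan] at hf
      induction hf using Submodule.span_induction with
      | mem y hy => obtain ⟨i, rfl⟩ := hy; exact hF i
      | zero => rw [zero_div]; exact zero_mem _
      | add x y _ _ hx hy => rw [add_div]; exact add_mem hx hy
      | smul c x _ hx =>
        rw [Algebra.smul_def, mul_div_assoc]
        exact mul_mem (F.algebraMap_mem c) hx
    have hall : ∀ f ∈ L D, ∀ g ∈ L D, f / g ∈ F := fun f hf g hg => by
      rw [← div_div_div_cancel_right₀ (hφ.ne_zero 0) f g]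
      exact div_mem (hrat f hf) (hrat g hg)
    have := step hK D R
    exact eq_top_of_two hK hb hbR (by omega) (by omega) (by rw [deg_sub, deg_single, deg_eq_one hK]; omega)
      (by rw [deg_sub, deg_single, deg_eq_one hK]; ring) F hall
      fun f hf g hg => hall f (L_mono (sub_single_le D R) hf) g (L_mono (sub_single_le D R) hg)
  refine ⟨birat_of_adjoin_eq_top hK hb one_le_two φ hφ hspan
    (htop _ fun i => IntermediateField.subset_adjoin _ _ ⟨i, rfl⟩), fun hiso => ?_⟩
  haveI := infinite_places hK
  obtain ⟨Q⟩ := (inferInstance : Nonempty (Place k K))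
  obtain ⟨t, H, ht, hH, -⟩ := dOrd_spec hK Q
  let δ := hasseDer H hH
  let F : IntermediateField k K :=
    { carrier := {z | δ z = 0}
      mul_mem' := fun {a b} ha hb => by simp only [Set.mem_setOf_eq] at *; rw [Derivation.leibniz, ha, hb, smul_zero, smul_zero, add_zero]
      add_mem' := fun {a b} ha hb => by simp only [Set.mem_setOf_eq] at *; rw [map_add, ha, hb, add_zero]
      algebraMap_mem' := fun c => δ.map_algebraMap c
      inv_mem' := fun a ha => by
        simp only [Set.mem_setOf_eq] at *
        rw [Derivation.leibniz_inv, ha, smul_zero] }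
  have hFtop := htop F fun i => hiso.mul hK (hφL 0) (hφ.ne_zero 0) (hφL i) hH
  have h1 : δ t = 0 := show t ∈ F from hFtop ▸ IntermediateField.mem_top
  exact (SpaceCurveLib.ord_hasseD_param hK ht hH ht).1 h1

include hK hC in
/-- Divisors of degree `g + 3`, and above, that are nonspecial and embed. -/
theorem exists_nonspecial_sep2 (hg : 1 ≤ genus k K) (n : ℕ) :
    ∃ D : Divisor k K, D.deg = genus k K + 3 + n ∧ SpaceCurveLib.Sep2 D ∧ ell (C - D) = 0 := by
  classical
  haveI := infinite_places hK
  obtain ⟨hCl, hCd⟩ := canonical_ell_deg hK hC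
  have hstage : ∀ j : ℕ, j ≤ genus k K → ∃ D : Divisor k K, D.deg = j ∧ ell (C - D) + j = genus k K := by
    intro j
    induction j with
    | zero => exact fun _ => ⟨0, by rw [deg_zero]; rfl, by rw [sub_zero, hCl, add_zero]⟩
    | succ j ih =>
      intro hj
      obtain ⟨D, hDd, hDl⟩ := ih (by omega)
      obtain ⟨R, -, hR⟩ := Set.infinite_univ.exists_notMem_finite (finite_base hK (E := C - D) (by omega))
      simp only [Set.mem_setOf_eq, not_not] at hR
      refine ⟨D + Finsupp.single R 1, by rw [deg_add, deg_single, deg_eq_one hK, hDd]; push_cast; ring, ?_⟩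
      have := step hK (C - D) R
      rw [show C - (D + Finsupp.single R 1) = C - D - Finsupp.single R 1 by abel]
      omega
  obtain ⟨D0, hD0d, hD0l⟩ := hstage _ le_rfl
  have hrr : ∀ E : Divisor k K, (ell E : ℤ) - ell (C - E) = E.deg + 1 - genus k K := fun E => by
    have := riemann_roch hK hC E; omega
  have hmono : ∀ (E : Divisor k K) (R : Place k K), ell (E - Finsupp.single R 1) ≤ ell E := fun E R => by
    haveI := Groth.Agent.S10976.result k K hK E
    exact Submodule.finrank_mono (L_mono (sub_single_le E R))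
  have hl0 : ell D0 = 1 := by have := hrr D0; omega
  -- degree g + 1
  have hexc : {P : Place k K | 1 ≤ ell (C + Finsupp.single P 1 - D0)}.Finite := by
    refine (finite_base hK (E := D0) (by omega)).subset fun P hP => ?_
    simp only [Set.mem_setOf_eq] at hP ⊢
    have h1 := hrr (D0 - Finsupp.single P 1)
    rw [show C - (D0 - Finsupp.single P 1) = C + Finsupp.single P 1 - D0 by abel, deg_sub, deg_single, deg_eq_one hK,
      hD0d] at h1
    omega
  obtain ⟨R₁, -, hR₁⟩ := Set.infinite_univ.exists_notMem_finite
    (hexc.biUnion (t := fun P => {R | ¬ ell (C + Finsupp.single P 1 - D0 - Finsupp.single R 1) < ell (C + Finsupp.single P 1 - D0)})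
      fun P hP => finite_base hK hP)
  simp only [Set.mem_iUnion, Set.mem_setOf_eq, not_exists, not_not] at hR₁
  set D1 := D0 + Finsupp.single R₁ 1 with hD1
  have hD1d : D1.deg = genus k K + 1 := by rw [hD1, deg_add, deg_single, deg_eq_one hK, hD0d]; push_cast; ring
  have hone : ∀ P : Place k K, ell (C + Finsupp.single P 1 - D1) = 0 := fun P => by
    rw [hD1, show C + Finsupp.single P 1 - (D0 + Finsupp.single R₁ 1) = C + Finsupp.single P 1 - D0 - Finsupp.single R₁ 1 by abel]
    have := hmono (C + Finsupp.single P 1 - D0) R₁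
    by_cases hP : 1 ≤ ell (C + Finsupp.single P 1 - D0)
    · have := hR₁ P hP
      have hle : ell (C + Finsupp.single P 1 - D0) ≤ ell (C - D0) + 1 := by
        have := step hK (C + Finsupp.single P 1 - D0) P
        rwa [show C + Finsupp.single P 1 - D0 - Finsupp.single P 1 = C - D0 by abel] at this
      omega
    · omega
  have hC1 : ell (C - D1) = 0 := by
    have := hmono (C - D0) R₁
    rw [show C - D1 = C - D0 - Finsupp.single R₁ 1 by rw [hD1]; abel]
    omega
  have hl1 : ell D1 = 2 := by have := hrr D1; omega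
  have hb1 : Bpf D1 := fun P => by
    have h1 := hrr (D1 - Finsupp.single P 1)
    rw [show C - (D1 - Finsupp.single P 1) = C + Finsupp.single P 1 - D1 by abel, hone P, deg_sub, deg_single,
      deg_eq_one hK, hD1d] at h1
    omega
  -- degree g + 2
  obtain ⟨R₂⟩ := (inferInstance : Nonempty (Place k K))
  set D2 := D1 + Finsupp.single R₂ 1 with hD2
  have hD2d : D2.deg = genus k K + 2 := by rw [hD2, deg_add, deg_single, deg_eq_one hK, hD1d]; push_cast; ring
  have hD2R : D2 - Finsupp.single R₂ 1 = D1 := by rw [hD2]; abel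
  have hone2 : ∀ P : Place k K, ell (C + Finsupp.single P 1 - D2) = 0 := fun P => by
    have := hmono (C + Finsupp.single P 1 - D1) R₂
    rw [show C + Finsupp.single P 1 - D2 = C + Finsupp.single P 1 - D1 - Finsupp.single R₂ 1 by rw [hD2]; abel]
    have := hone P
    omega
  have hC2 : ell (C - D2) = 0 := by
    have := hmono (C - D1) R₂
    rw [show C - D2 = C - D1 - Finsupp.single R₂ 1 by rw [hD2]; abel]
    omega
  have hl2 : ell D2 = 3 := by have := hrr D2; omega
  have hdrop : ∀ P : Place k K, ell (D2 - Finsupp.single P 1) = 2 := fun P => by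
    have h1 := hrr (D2 - Finsupp.single P 1)
    rw [show C - (D2 - Finsupp.single P 1) = C + Finsupp.single P 1 - D2 by abel, hone2 P, deg_sub, deg_single,
      deg_eq_one hK, hD2d] at h1
    omega
  have hb2 : Bpf D2 := fun P => by rw [hdrop]; omega
  obtain ⟨⟨S, hS⟩, hniso⟩ := birat_and_not_iso hK hl2 hb2 (R := R₂) (by rw [hD2R]; exact hb1) (by omega)
  let Z : Set (Place k K × Place k K) :=
    {PQ | 1 ≤ ell (C + Finsupp.single PQ.1 1 + Finsupp.single PQ.2 1 - D2)}
  have hZeq : ∀ P Q : Place k K, (P, Q) ∈ Z → ell (D2 - Finsupp.single P 1 - Finsupp.single Q 1) = 2 := by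
    intro P Q hPQ
    simp only [Z, Set.mem_setOf_eq] at hPQ
    have h1 := hrr (D2 - Finsupp.single P 1 - Finsupp.single Q 1)
    rw [show C - (D2 - Finsupp.single P 1 - Finsupp.single Q 1) = C + Finsupp.single P 1 + Finsupp.single Q 1 - D2 by abel,
      deg_sub, deg_sub, deg_single, deg_single, deg_eq_one hK, deg_eq_one hK, hD2d] at h1
    have := hmono (D2 - Finsupp.single P 1) Q
    have := hdrop P
    omega
  have hbase : ∀ P : Place k K, {Q | (P, Q) ∈ Z}.Finite ∧ {Q | (Q, P) ∈ Z}.Finite := fun P => by
    have hf := finite_base hK (E := D2 - Finsupp.single P 1) (by rw [hdrop]; omega)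
    refine ⟨hf.subset fun Q hQ => ?_, hf.subset fun Q hQ => ?_⟩
    · simp only [Set.mem_setOf_eq]
      rw [hZeq P Q hQ, hdrop]
      omega
    · simp only [Set.mem_setOf_eq]
      rw [sub_right_comm, hZeq Q P hQ, hdrop]
      omega
  have hram := SpaceCurveLib.finite_ram_of_not_iso hK (E := D2) le_rfl hniso
  have hZ : Z.Finite := by
    refine (((S.finite_toSet.biUnion fun P _ => (hbase P).1.image fun Q => (P, Q)).union
      (S.finite_toSet.biUnion fun P _ => (hbase P).2.image fun Q => (Q, P))).union
      (hram.image fun P => (P, P))).subset fun ⟨P, Q⟩ hPQ => ?_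
    simp only [Set.mem_union, Set.mem_iUnion, Set.mem_image, Finset.mem_coe, Set.mem_setOf_eq]
    by_cases hP : P ∈ S
    · exact Or.inl (Or.inl ⟨P, hP, Q, hPQ, rfl⟩)
    by_cases hQ : Q ∈ S
    · exact Or.inl (Or.inr ⟨Q, hQ, P, hPQ, rfl⟩)
    rcases eq_or_ne P Q with rfl | hne
    · refine Or.inr ⟨P, ?_, rfl⟩
      have := hZeq P P hPQ
      omega
    · have := hS P Q hP hQ hne
      rw [hZeq P Q hPQ, hdrop] at this
      omega
  obtain ⟨R₃, -, hR₃⟩ := Set.infinite_univ.exists_notMem_finite
    (hZ.biUnion (t := fun PQ => {R | ¬ ell (C + Finsupp.single PQ.1 1 + Finsupp.single PQ.2 1 - D2 - Finsupp.single R 1) <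
        ell (C + Finsupp.single PQ.1 1 + Finsupp.single PQ.2 1 - D2)})
      fun PQ hPQ => finite_base hK hPQ)
  simp only [Set.mem_iUnion, Set.mem_setOf_eq, not_exists, not_not] at hR₃
  -- degree g + 3 and above
  have htwo : ∀ P Q : Place k K, ell (C + Finsupp.single P 1 + Finsupp.single Q 1 - (D2 + Finsupp.single R₃ 1)) = 0 := by
    intro P Q
    rw [show C + Finsupp.single P 1 + Finsupp.single Q 1 - (D2 + Finsupp.single R₃ 1) =
      C + Finsupp.single P 1 + Finsupp.single Q 1 - D2 - Finsupp.single R₃ 1 by abel]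
    have := hmono (C + Finsupp.single P 1 + Finsupp.single Q 1 - D2) R₃
    have hle := step hK (C + Finsupp.single P 1 + Finsupp.single Q 1 - D2) Q
    rw [show C + Finsupp.single P 1 + Finsupp.single Q 1 - D2 - Finsupp.single Q 1 = C + Finsupp.single P 1 - D2 by abel,
      hone2] at hle
    by_cases hPQ : (P, Q) ∈ Z
    · have := hR₃ (P, Q) hPQ
      dsimp only at this
      omega
    · simp only [Z, Set.mem_setOf_eq] at hPQ
      omega
  let D := D2 + Finsupp.single R₃ 1 + n • Finsupp.single R₂ 1
  have hle : ∀ E : Divisor k K, ell (E - D) ≤ ell (E - (D2 + Finsupp.single R₃ 1)) := fun E => by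
    haveI := Groth.Agent.S10976.result k K hK (E - (D2 + Finsupp.single R₃ 1))
    exact Submodule.finrank_mono (L_mono (sub_le_sub_left (le_add_of_nonneg_right
      (nsmul_nonneg (Finsupp.single_nonneg.2 zero_le_one) n)) E))
  have hDd : D.deg = genus k K + 3 + n := by
    simp only [D, deg_add, deg_nsmul, deg_single, deg_eq_one hK, hD2d]
    push_cast
    ring
  have hCD : ell (C - D) = 0 := by
    have h1 := hle C
    have h2 := hmono (C - D2) R₃
    rw [show C - D2 - Finsupp.single R₃ 1 = C - (D2 + Finsupp.single R₃ 1) by abel] at h2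
    omega
  refine ⟨D, hDd, fun P Q => ?_, hCD⟩
  have h1 := hle (C + Finsupp.single P 1 + Finsupp.single Q 1)
  have h2 := htwo P Q
  have h4 := hrr D
  have h5 := hrr (D - Finsupp.single P 1 - Finsupp.single Q 1)
  rw [show C - (D - Finsupp.single P 1 - Finsupp.single Q 1) = C + Finsupp.single P 1 + Finsupp.single Q 1 - D by abel,
    deg_sub, deg_sub, deg_single, deg_single, deg_eq_one hK, deg_eq_one hK, hDd] at h5
  omega

include hK hC in
/-- A nonspecial divisor embedding a curve of genus at least two has degree at least `g + 3`. -/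
theorem deg_ge_of_nonspecial {D : Divisor k K} (hs : SpaceCurveLib.Sep2 D) (h0 : ell (C - D) = 0)
    (hg : 2 ≤ genus k K) : (genus k K : ℤ) + 3 ≤ D.deg := by
  by_contra hcon
  have hr := riemann_roch hK hC D
  rw [h0] at hr
  haveI := infinite_places hK
  obtain ⟨P⟩ := (inferInstance : Nonempty (Place k K))
  have hsP := hs P P
  rcases (show ell D = 2 ∨ ell D = 3 by omega) with h | h
  · obtain ⟨z, hz, he⟩ := exists_effective_of_ell_pos hK.1 (D := D) (by omega)
    obtain ⟨Q, he'⟩ := exists_sub_single he (by rw [deg_add, deg_div hK.1]; omega)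
    obtain ⟨S, he''⟩ := exists_sub_single he' (by rw [deg_sub, deg_add, deg_div hK.1, deg_single, deg_eq_one hK]; omega)
    haveI := Groth.Agent.S10976.result k K hK (D + FunFld.div k z - Finsupp.single Q 1 - Finsupp.single S 1)
    have h1 : 1 ≤ ell (D + FunFld.div k z - Finsupp.single Q 1 - Finsupp.single S 1) := by
      have := Submodule.finrank_mono (show Submodule.span k {(1 : K)} ≤ _ from
        Submodule.span_le.2 (Set.singleton_subset_iff.2 (one_mem_L hK he'')))
      rwa [finrank_span_singleton one_ne_zero] at this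
    rw [show D + FunFld.div k z - Finsupp.single Q 1 - Finsupp.single S 1 =
      D - Finsupp.single Q 1 - Finsupp.single S 1 + FunFld.div k z by abel, ell_add_div hK.1 _ hz] at h1
    have := hs Q S
    omega
  · have h6 := ell_two_le_six hK hs h
    have hr2 := riemann_roch hK hC (2 • D)
    rw [deg_nsmul] at hr2
    omega

end PlaneNetLib

end
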